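import Cfsg.Prelude.Def_JordanBlocks
import Mathlib.LinearAlgebra.Matrix.GeneralLinearGroup.Card
import Mathlib.Data.Fintype.Prod
import Mathlib.Data.Fintype.Sigma

/-!
The commutant of a unipotent matrix of given Jordan type.
-/

set_option autoImplicit false
set_option linter.unusedSectionVars false

namespace CfsgLib.JordanCommutant

open Matrix

variable {F : Type*} [Field F] {t : ℕ} (d : Fin t → ℕ)

/-- The index type. -/
abbrev Ix : Type := (k : Fin t) × Fin (d k)

/-- The free parameters. -/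
abbrev Par : Type := (k : Fin t) × (l : Fin t) × {i : Fin (d l) // d l ≤ (i : ℕ) + d k}

variable {d}

/-- The parameter function extended by zero. -/
def ext0 (c : Par d → F) (l k : Fin t) (n : ℕ) : F :=
  if h : n < d l ∧ d l ≤ n + d k then c ⟨k, l, ⟨n, h.1⟩, h.2⟩ else 0

/-- The matrix with given parameters. -/
def mk (c : Par d → F) : Matrix (Ix d) (Ix d) F :=
  Matrix.of fun p q => if (q.2 : ℕ) ≤ p.2 then ext0 c p.1 q.1 ((p.2 : ℕ) - q.2) else 0

variable (d F) in
/-- The nilpotent part. -/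
def nil : Matrix (Ix d) (Ix d) F :=
  Matrix.of fun p q => if p.1 = q.1 ∧ (p.2 : ℕ) = (q.2 : ℕ) + 1 then 1 else 0

theorem jordan_eq : Cfsg.jordanTypeMatrix d F = 1 + nil F d := by
  ext ⟨k, i⟩ ⟨l, j⟩
  rw [Cfsg.jordanTypeMatrix, Matrix.add_apply]
  by_cases h : k = l
  · subst h
    rw [Matrix.blockDiagonal'_apply_eq]
    simp only [Cfsg.jordanBlock, Matrix.of_apply, nil, true_and, Matrix.one_apply]
    by_cases e : (i : ℕ) = j
    · rw [if_pos e, if_pos (by rw [Fin.ext e]), if_neg (by omega), add_zero]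
    · rw [if_neg e, if_neg (c := (⟨k, i⟩ : Ix d) = ⟨k, j⟩) (fun e' => e (by rw [eq_of_heq (Sigma.mk.inj_iff.mp e').2])), zero_add]
  · rw [Matrix.blockDiagonal'_apply_ne _ _ _ h]
    simp [nil, Matrix.one_apply, h, Sigma.mk.inj_iff]

theorem comm_jordan_iff (X : Matrix (Ix d) (Ix d) F) :
    X * Cfsg.jordanTypeMatrix d F = Cfsg.jordanTypeMatrix d F * X ↔ X * nil F d = nil F d * X := by
  rw [jordan_eq, Matrix.mul_add, Matrix.add_mul, Matrix.mul_one, Matrix.one_mul, add_right_inj]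

theorem mul_nil_apply (X : Matrix (Ix d) (Ix d) F) (p : Ix d) (k : Fin t) (j : Fin (d k)) :
    (X * nil F d) p ⟨k, j⟩ = if h : (j : ℕ) + 1 < d k then X p ⟨k, ⟨j + 1, h⟩⟩ else 0 := by
  rw [Matrix.mul_apply]
  split
  · rename_i h
    rw [Finset.sum_eq_single (⟨k, ⟨j + 1, h⟩⟩ : Ix d)]
    · simp [nil]
    · rintro ⟨l, i⟩ - hne
      rw [nil, Matrix.of_apply, if_neg, mul_zero]
      rintro ⟨rfl, e⟩
      exact hne (Sigma.ext rfl (heq_of_eq (Fin.ext e)))
    · simp
  · rename_i h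
    refine Finset.sum_eq_zero ?_
    rintro ⟨l, i⟩ -
    rw [nil, Matrix.of_apply, if_neg, mul_zero]
    rintro ⟨rfl, e⟩
    exact h (e ▸ i.2)

theorem nil_mul_apply (X : Matrix (Ix d) (Ix d) F) (l : Fin t) (i : Fin (d l)) (q : Ix d) :
    (nil F d * X) ⟨l, i⟩ q = if h : 0 < (i : ℕ) then X ⟨l, ⟨i - 1, lt_of_le_of_lt (Nat.sub_le _ _) i.2⟩⟩ q else 0 := by
  rw [Matrix.mul_apply]
  split
  · rename_i h
    rw [Finset.sum_eq_single (⟨l, ⟨i - 1, lt_of_le_of_lt (Nat.sub_le _ _) i.2⟩⟩ : Ix d)]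
    · rw [nil, Matrix.of_apply, if_pos ⟨rfl, by simp only; omega⟩, one_mul]
    · rintro ⟨k, j⟩ - hne
      rw [nil, Matrix.of_apply, if_neg, zero_mul]
      rintro ⟨rfl, e⟩
      exact hne (Sigma.ext rfl (heq_of_eq (Fin.ext (by simp only at e ⊢; omega))))
    · simp
  · rename_i h
    refine Finset.sum_eq_zero ?_
    rintro ⟨k, j⟩ -
    rw [nil, Matrix.of_apply, if_neg, zero_mul]
    rintro ⟨rfl, e⟩
    simp only at e
    omega

theorem mk_comm (c : Par d → F) : mk c * nil F d = nil F d * mk c := by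
  ext ⟨l, i⟩ ⟨k, j⟩
  rw [mul_nil_apply, nil_mul_apply]
  simp only [mk, Matrix.of_apply]
  split_ifs <;> first
    | rfl
    | (congr 1; omega)
    | (exfalso; omega)
    | (symm; rw [ext0, dif_neg]; omega)
    | (rw [ext0, dif_neg]; omega)

/-- The parameters of a matrix. -/
def par (X : Matrix (Ix d) (Ix d) F) : Par d → F := fun p =>
  X ⟨p.2.1, p.2.2.1⟩ ⟨p.1, ⟨0, by have := p.2.2.2; have := p.2.2.1.2; omega⟩⟩

theorem par_mk (c : Par d → F) : par (mk c) = c := by
  funext ⟨k, l, ⟨i, hi⟩⟩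
  simp only [par, mk, Matrix.of_apply, Nat.zero_le, if_true, Nat.sub_zero]
  rw [ext0, dif_pos ⟨i.2, hi⟩]

theorem mk_par (X : Matrix (Ix d) (Ix d) F) (h : X * nil F d = nil F d * X) : mk (par X) = X := by
  have E : ∀ (l k : Fin t) (i : Fin (d l)) (j : Fin (d k)),
      (if h : (j : ℕ) + 1 < d k then X ⟨l, i⟩ ⟨k, ⟨j + 1, h⟩⟩ else 0) =
        if h : 0 < (i : ℕ) then X ⟨l, ⟨i - 1, lt_of_le_of_lt (Nat.sub_le _ _) i.2⟩⟩ ⟨k, j⟩ else 0 := by
    intro l k i j
    have := congrFun (congrFun h ⟨l, i⟩) ⟨k, j⟩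
    rwa [mul_nil_apply, nil_mul_apply] at this
  -- below the diagonal a matrix is constant along diagonals, above it vanishes
  have key : ∀ (j : ℕ) (l k : Fin t) (i : ℕ) (hi : i < d l) (hj : j < d k),
      X ⟨l, ⟨i, hi⟩⟩ ⟨k, ⟨j, hj⟩⟩ = if j ≤ i then X ⟨l, ⟨i - j, by omega⟩⟩ ⟨k, ⟨0, by omega⟩⟩ else 0 := by
    intro j
    induction j with
    | zero => intro l k i hi hj; simp
    | succ j ih =>
      intro l k i hi hj
      have e := E l k ⟨i, hi⟩ ⟨j, by omega⟩
      rw [dif_pos (show (⟨j, _⟩ : Fin (d k)).1 + 1 < d k from hj)] at e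
      rw [e]
      by_cases h0 : 0 < i
      · rw [dif_pos h0, ih l k (i - 1) _ (by omega)]
        by_cases hle : j + 1 ≤ i
        · rw [if_pos hle, if_pos (by omega)]
          congr 3
          omega
        · rw [if_neg hle, if_neg (by omega)]
      · rw [dif_neg h0, if_neg (by omega)]
  ext ⟨l, ⟨i, hi⟩⟩ ⟨k, ⟨j, hj⟩⟩
  rw [key j l k i hi hj, mk, Matrix.of_apply]
  simp only
  by_cases hle : j ≤ i
  · rw [if_pos hle, if_pos hle, ext0]
    by_cases hc : d l ≤ i - j + d k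
    · rw [dif_pos ⟨by omega, hc⟩]
      rfl
    · rw [dif_neg (by omega)]
      have e1 := key (d k - 1) l k (i - j + (d k - 1)) (by omega) (by omega)
      rw [if_pos (by omega)] at e1
      have e2 := E l k ⟨i - j + d k, by omega⟩ ⟨d k - 1, by omega⟩
      rw [dif_neg (by simp only; omega), dif_pos (by simp only; omega)] at e2
      have e3 : X ⟨l, ⟨i - j + (d k - 1), by omega⟩⟩ ⟨k, ⟨d k - 1, by omega⟩⟩ =
          X ⟨l, ⟨i - j + d k - 1, by omega⟩⟩ ⟨k, ⟨d k - 1, by omega⟩⟩ := by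
        congr 3; omega
      rw [e3, ← e2] at e1
      refine Eq.trans ?_ e1.symm |>.symm
      congr 3
      omega
  · rw [if_neg hle, if_neg hle]

section Units

variable (d) in
/-- The blocks of one size. -/
abbrev Fib (s : ℕ) : Type := {k : Fin t // d k = s}

/-- The leading scalar matrix for one block size. -/
def lead (c : Par d → F) (s : ℕ) : Matrix (Fib d s) (Fib d s) F :=
  Matrix.of fun l k => ext0 c l.1 k.1 0

theorem lead_eq (hd : ∀ k, 1 ≤ d k) (c : Par d → F) (s : ℕ) (l k : Fib d s) :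
    lead c s l k = mk c ⟨l.1, ⟨0, hd _⟩⟩ ⟨k.1, ⟨0, hd _⟩⟩ := by
  simp [lead, mk]

theorem lead_mul (hd : ∀ k, 1 ≤ d k) (a b c : Par d → F) (h : mk a * mk b = mk c) (s : ℕ) :
    lead a s * lead b s = lead c s := by
  classical
  ext m k
  rw [Matrix.mul_apply, lead_eq hd c, ← h, Matrix.mul_apply]
  refine Finset.sum_bij_ne_zero (fun l _ _ => (⟨l.1, ⟨0, hd _⟩⟩ : Ix d)) (fun _ _ _ => Finset.mem_univ _)
    (fun l _ _ l' _ _ e => Subtype.ext (congrArg Sigma.fst e)) ?_ (fun l _ _ => by rw [lead_eq hd, lead_eq hd])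
  rintro ⟨l, i⟩ - hne
  obtain ⟨hX, hY⟩ := mul_ne_zero_iff.mp hne
  simp only [mk, Matrix.of_apply, ext0, Nat.le_zero, Nat.zero_le, if_true, Nat.sub_zero, ne_eq,
    ite_eq_right_iff, dite_eq_right_iff, not_forall] at hX hY
  obtain ⟨hi0, hX'⟩ := hX
  obtain ⟨hb, -⟩ := hY
  obtain ⟨ha, -⟩ := hX'
  have hi : i = ⟨0, hd l⟩ := Fin.ext hi0
  subst hi
  have hm := m.2
  have hk := k.2
  simp only [Nat.zero_sub, zero_add] at ha hb
  refine ⟨⟨l, by omega⟩, Finset.mem_univ _, ?_, rfl⟩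
  rw [lead_eq hd, lead_eq hd]
  exact hne

theorem lead_one (hd : ∀ k, 1 ≤ d k) (c : Par d → F) (h : mk c = 1) (s : ℕ) : lead c s = 1 := by
  ext l k
  rw [lead_eq hd, h, Matrix.one_apply, Matrix.one_apply]
  refine if_congr ⟨fun e => Subtype.ext (congrArg Sigma.fst e), fun e => by rw [e]⟩ rfl rfl

theorem pow_eq_zero_of_lead (c : Par d → F) (h : ∀ l k, d l = d k → ext0 c l k 0 = 0) :
    IsNilpotent (mk c) := by
  classical
  set D := Finset.univ.sup d with hD
  let w : Ix d → ℕ := fun p => (p.2 : ℕ) * (D + 1) + (D - d p.1)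
  have hbound : ∀ p, w p < (D + 1) * (D + 1) := by
    rintro ⟨l, i⟩
    have h1 : d l ≤ D := Finset.le_sup (Finset.mem_univ l)
    have h2 := i.2
    have h3 : ((i : ℕ) + 1) * (D + 1) ≤ (D + 1) * (D + 1) := Nat.mul_le_mul_right _ (by omega)
    rw [add_mul, one_mul] at h3
    simp only [w]
    omega
  have hstrict : ∀ p q, mk c p q ≠ 0 → w q < w p := by
    rintro ⟨l, i⟩ ⟨k, j⟩ hne
    simp only [mk, Matrix.of_apply, ne_eq, ite_eq_right_iff, not_forall] at hne
    obtain ⟨hle, hne⟩ := hne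
    have h1 : d l ≤ D := Finset.le_sup (Finset.mem_univ l)
    have h1' : d k ≤ D := Finset.le_sup (Finset.mem_univ k)
    simp only [w]
    by_cases he : (j : ℕ) = i
    · have h2 : d l ≠ d k := by
        intro e
        apply hne
        rw [he, Nat.sub_self]
        exact h l k e
      rw [he, Nat.sub_self] at hne
      simp only [ext0, dite_eq_right_iff, not_forall] at hne
      obtain ⟨⟨-, h3⟩, -⟩ := hne
      rw [he]
      omega
    · have h3 : ((j : ℕ) + 1) * (D + 1) ≤ (i : ℕ) * (D + 1) := Nat.mul_le_mul_right _ (by omega)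
      rw [add_mul, one_mul] at h3
      omega
  have hp : ∀ n p q, (mk c ^ n) p q ≠ 0 → w q + n ≤ w p := by
    intro n
    induction n with
    | zero =>
      intro p q hne
      rw [pow_zero, Matrix.one_apply] at hne
      split_ifs at hne with e
      · rw [e]; omega
      · exact absurd rfl hne
    | succ n ih =>
      intro p q hne
      rw [pow_succ, Matrix.mul_apply] at hne
      obtain ⟨r, -, hr⟩ := Finset.exists_ne_zero_of_sum_ne_zero hne
      obtain ⟨h1, h2⟩ := mul_ne_zero_iff.mp hr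
      have := ih p r h1
      have := hstrict r q h2
      omega
  refine ⟨(D + 1) * (D + 1), ?_⟩
  ext p q
  by_contra hne
  have := hp _ p q hne
  have := hbound p
  omega

theorem ext0_sub (a b : Par d → F) (l k : Fin t) (n : ℕ) : ext0 (a - b) l k n = ext0 a l k n - ext0 b l k n := by
  simp only [ext0, Pi.sub_apply]
  split <;> simp

theorem mk_sub (a b : Par d → F) : mk (a - b) = mk a - mk b := by
  ext p q
  simp only [mk, Matrix.of_apply, Matrix.sub_apply, ext0_sub]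
  split <;> simp

/-- Parameters with prescribed leading matrices. -/
def lift (M : ∀ k : Fin t, Matrix (Fib d (d k)) (Fib d (d k)) F) : Par d → F := fun p =>
  if h : (p.2.2.1 : ℕ) = 0 ∧ d p.2.1 = d p.1 then M p.1 ⟨p.2.1, h.2⟩ ⟨p.1, rfl⟩ else 0

theorem isUnit_iff (hd : ∀ k, 1 ≤ d k) (c : Par d → F) :
    IsUnit (mk c) ↔ ∀ s, IsUnit (lead c s) := by
  classical
  constructor
  · intro hu s
    obtain ⟨u, hu⟩ := hu
    have hinv : (↑u⁻¹ : Matrix (Ix d) (Ix d) F) * nil F d = nil F d * (↑u⁻¹ : Matrix (Ix d) (Ix d) F) :=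
      ((show Commute (↑u : Matrix (Ix d) (Ix d) F) (nil F d) from hu ▸ mk_comm c).units_inv_left).eq
    have h1 : mk c * mk (par (↑u⁻¹ : Matrix (Ix d) (Ix d) F)) = mk (par (1 : Matrix (Ix d) (Ix d) F)) := by
      rw [mk_par _ hinv, mk_par _ (by rw [one_mul, mul_one]), ← hu, Units.mul_inv]
    have h2 := lead_mul hd _ _ _ h1 s
    rw [lead_one hd _ (mk_par _ (by rw [one_mul, mul_one])) s] at h2
    exact IsUnit.of_mul_eq_one _ h2
  · intro hu
    let N : ∀ s : ℕ, Matrix (Fib d s) (Fib d s) F := fun s => ↑(hu s).unit⁻¹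
    set b := lift (fun k => N (d k)) with hb
    have hlb : ∀ s, lead b s = N s := by
      intro s
      ext ⟨l, hl⟩ ⟨k, hk⟩
      have hlk : d l = d k := hl.trans hk.symm
      subst hk
      simp only [lead, Matrix.of_apply, ext0]
      rw [dif_pos ⟨hd l, by omega⟩, hb, lift, dif_pos ⟨rfl, hlk⟩]
    set P := mk c * mk b with hP
    have hPc : P * nil F d = nil F d * P := (Commute.mul_left (mk_comm c) (mk_comm b)).eq
    have h1c : (1 : Matrix (Ix d) (Ix d) F) * nil F d = nil F d * 1 := by rw [one_mul, mul_one]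
    have hlead : ∀ s, lead (par P) s = 1 := fun s => by
      rw [← lead_mul hd c b (par P) (by rw [mk_par _ hPc]) s, hlb]
      exact IsUnit.mul_val_inv (hu s)
    have hnil : IsNilpotent (mk (par P - par (1 : Matrix (Ix d) (Ix d) F))) := by
      refine pow_eq_zero_of_lead _ fun l k e => ?_
      have h2 : lead (par P) (d k) ⟨l, e⟩ ⟨k, rfl⟩ = lead (par (1 : Matrix (Ix d) (Ix d) F)) (d k) ⟨l, e⟩ ⟨k, rfl⟩ := by
        rw [hlead, lead_one hd _ (mk_par _ h1c)]
      simp only [lead, Matrix.of_apply] at h2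
      rw [ext0_sub, h2, sub_self]
    rw [mk_sub, mk_par _ hPc, mk_par _ h1c] at hnil
    have h3 : IsUnit P := by
      have := hnil.isUnit_add_one
      rwa [sub_add_cancel] at this
    rw [Matrix.isUnit_iff_isUnit_det, hP, Matrix.det_mul] at h3
    exact (Matrix.isUnit_iff_isUnit_det _).mpr (isUnit_of_mul_isUnit_left h3)

end Units

end CfsgLib.JordanCommutant
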