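import Cfsg.Agent.Lib.JordanCommutant.Basic
import Mathlib.Algebra.BigOperators.Group.Finset.Sigma
import Mathlib.Algebra.BigOperators.Fin
import Mathlib.Tactic.Ring

/-!
The order of the centraliser of a unipotent matrix of given Jordan type.
-/

set_option autoImplicit false
set_option linter.unusedSectionVars false

namespace CfsgLib.JordanCommutant

open Matrix

variable {F : Type*} [Field F] [Fintype F] {t : ℕ} (d : Fin t → ℕ)

/-- Parameters of the leading matrices. -/
def IsLead (p : Par d) : Prop := (p.2.2.1 : ℕ) = 0 ∧ d p.2.1 = d p.1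

instance (p : Par d) : Decidable (IsLead d p) := by unfold IsLead; infer_instance

variable {d}

theorem lead_congr (a b : Par d → F) (h : ∀ p, IsLead d p → a p = b p) (s : ℕ) : lead a s = lead b s := by
  ext ⟨l, hl⟩ ⟨k, hk⟩
  simp only [lead, Matrix.of_apply, ext0]
  split
  · exact h _ ⟨rfl, hl.trans hk.symm⟩
  · rfl

/-- The leading parameters are the entries of the leading matrices. -/
def leadEquiv (hd : ∀ k, 1 ≤ d k) (D : ℕ) (hD : ∀ k, d k < D) :
    ({p : Par d // IsLead d p} → F) ≃ (∀ s : Fin D, Matrix (Fib d s) (Fib d s) F) where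
  toFun a s := Matrix.of fun l k => a ⟨⟨k.1, l.1, ⟨0, hd _⟩, by
    have := l.2; have := k.2; simp only [zero_add]; omega⟩, rfl, by
    have := l.2; have := k.2; simp only; omega⟩
  invFun M p := M ⟨d p.1.1, hD _⟩ ⟨p.1.2.1, p.2.2⟩ ⟨p.1.1, rfl⟩
  left_inv a := by
    funext ⟨⟨k, l, ⟨i, hi⟩⟩, h0, he⟩
    have : i = ⟨0, hd l⟩ := Fin.ext h0
    subst this
    rfl
  right_inv M := by
    funext ⟨s, hs⟩
    ext ⟨l, hl⟩ ⟨k, hk⟩
    simp only at hk
    subst hk
    rfl

theorem lead_eq_leadEquiv (hd : ∀ k, 1 ≤ d k) (D : ℕ) (hD : ∀ k, d k < D) (c : Par d → F) (s : Fin D) :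
    lead c s = leadEquiv hd D hD (fun p => c p.1) s := by
  ext l k
  have := l.2
  have := k.2
  simp only [lead, leadEquiv, Equiv.coe_fn_mk, Matrix.of_apply, ext0]
  rw [dif_pos ⟨hd _, by omega⟩]

theorem card_units (hd : ∀ k, 1 ≤ d k) (D : ℕ) (hD : ∀ k, d k < D) :
    Nat.card {c : Par d → F // ∀ s, IsUnit (lead c s)} =
      Fintype.card F ^ Nat.card {p : Par d // ¬ IsLead d p} *
        ∏ s : Fin D, ∏ j : Fin (Fintype.card (Fib d s)),
          (Fintype.card F ^ Fintype.card (Fib d s) - Fintype.card F ^ (j : ℕ)) := by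
  classical
  have hout : ∀ (c : Par d → F) (s : ℕ), D ≤ s → IsUnit (lead c s) := by
    intro c s hs
    haveI : IsEmpty (Fib d s) := ⟨fun k => by have := hD k.1; have := k.2; omega⟩
    exact isUnit_of_subsingleton _
  have e : {c : Par d → F // ∀ s, IsUnit (lead c s)} ≃
      ({p : Par d // ¬ IsLead d p} → F) × {a : {p : Par d // IsLead d p} → F // ∀ s, IsUnit (leadEquiv hd D hD a s)} :=
    { toFun := fun c => (fun p => c.1 p.1, ⟨fun p => c.1 p.1, fun s => by
        rw [← lead_eq_leadEquiv hd D hD c.1 s]; exact c.2 s⟩)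
      invFun := fun q => ⟨fun p => if h : IsLead d p then q.2.1 ⟨p, h⟩ else q.1 ⟨p, h⟩, fun s => by
        by_cases hs : s < D
        · have h2 := q.2.2 ⟨s, hs⟩
          have h3 := lead_eq_leadEquiv hd D hD (fun p => if h : IsLead d p then q.2.1 ⟨p, h⟩ else q.1 ⟨p, h⟩) ⟨s, hs⟩
          rw [h3]
          convert h2 using 3
          rename_i p
          rw [dif_pos p.2]
        · exact hout _ _ (not_lt.mp hs)⟩
      left_inv := fun c => Subtype.ext (funext fun p => by
        by_cases h : IsLead d p <;> simp [h])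
      right_inv := fun q => Prod.ext (funext fun p => by simp [p.2]) (Subtype.ext (funext fun p => by simp [p.2])) }
  rw [Nat.card_congr e, Nat.card_prod, Nat.card_fun, Nat.card_eq_fintype_card (α := F)]
  congr 1
  have e2 : {a : {p : Par d // IsLead d p} → F // ∀ s, IsUnit (leadEquiv hd D hD a s)} ≃
      (∀ s : Fin D, (Matrix (Fib d s) (Fib d s) F)ˣ) :=
    { toFun := fun a s => (a.2 s).unit
      invFun := fun u => ⟨(leadEquiv hd D hD).symm fun s => (u s : Matrix (Fib d s) (Fib d s) F), fun s => by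
        rw [Equiv.apply_symm_apply]; exact (u s).isUnit⟩
      left_inv := fun a => Subtype.ext (by simp)
      right_inv := fun u => funext fun s => Units.ext (by simp) }
  rw [Nat.card_congr e2, Nat.card_pi]
  refine Finset.prod_congr rfl fun s _ => ?_
  rw [← Matrix.card_GL_field (𝔽 := F) (Fintype.card (Fib d s))]
  exact Nat.card_congr (Units.mapEquiv
    (Matrix.reindexAlgEquiv F F (Fintype.equivFin (Fib d s))).toMulEquiv).toEquiv

/-- A subtype of a sigma type. -/
def sigmaSub {α : Type*} {β : α → Type*} (P : ∀ a, β a → Prop) :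
    {p : (a : α) × β a // P p.1 p.2} ≃ ((a : α) × {b : β a // P a b}) where
  toFun p := ⟨p.1.1, p.1.2, p.2⟩
  invFun p := ⟨⟨p.1, p.2.1⟩, p.2.2⟩

theorem card_not_lead (hd : ∀ k, 1 ≤ d k) :
    Nat.card {p : Par d // ¬ IsLead d p} =
      ∑ k : Fin t, ∑ l : Fin t, if d l = d k then d k - 1 else min (d l) (d k) := by
  classical
  rw [Nat.card_congr (sigmaSub (β := fun k : Fin t => (l : Fin t) × {i : Fin (d l) // d l ≤ (i : ℕ) + d k})
    (fun k p => ¬ IsLead d ⟨k, p⟩)), Nat.card_sigma]
  refine Finset.sum_congr rfl fun k _ => ?_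
  rw [Nat.card_congr (sigmaSub (β := fun l : Fin t => {i : Fin (d l) // d l ≤ (i : ℕ) + d k})
    (fun l p => ¬ IsLead d ⟨k, l, p⟩)), Nat.card_sigma]
  refine Finset.sum_congr rfl fun l _ => ?_
  have hk := hd k
  by_cases he : d l = d k
  · rw [if_pos he]
    have e : {p : {i : Fin (d l) // d l ≤ (i : ℕ) + d k} // ¬ IsLead d ⟨k, l, p⟩} ≃ Fin (d k - 1) :=
      { toFun := fun p => ⟨(p.1.1 : ℕ) - 1, by have := p.1.1.2; have h0 : (p.1.1 : ℕ) ≠ 0 := (fun h => p.2 ⟨h, he⟩); omega⟩
        invFun := fun j => ⟨⟨⟨(j : ℕ) + 1, by have := j.2; omega⟩, by simp only; omega⟩, fun h => by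
          have := h.1; simp at this⟩
        left_inv := fun p => by
          have : (p.1.1 : ℕ) ≠ 0 := fun h => p.2 ⟨h, he⟩
          exact Subtype.ext (Subtype.ext (Fin.ext (by simp only; omega)))
        right_inv := fun j => Fin.ext (by simp) }
    rw [Nat.card_congr e, Nat.card_fin]
  · rw [if_neg he]
    have e : {p : {i : Fin (d l) // d l ≤ (i : ℕ) + d k} // ¬ IsLead d ⟨k, l, p⟩} ≃ Fin (min (d l) (d k)) :=
      { toFun := fun p => ⟨(p.1.1 : ℕ) - (d l - d k), by have := p.1.1.2; have := p.1.2; omega⟩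
        invFun := fun j => ⟨⟨⟨(j : ℕ) + (d l - d k), by have := j.2; omega⟩, by simp only; omega⟩, fun h => he h.2⟩
        left_inv := fun p => Subtype.ext (Subtype.ext (Fin.ext (by have := p.1.2; simp only; omega)))
        right_inv := fun j => Fin.ext (by simp) }
    rw [Nat.card_congr e, Nat.card_fin]

theorem exponent_eq (hd : ∀ k, 1 ≤ d k) (D : ℕ) (hD : ∀ k, d k < D) :
    (∑ k : Fin t, ∑ l : Fin t, if d l = d k then d k - 1 else min (d l) (d k)) =
      2 * (∑ i ∈ Finset.range D, ∑ j ∈ Finset.range D,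
        if i < j then i * (Finset.univ.filter (fun k : Fin t => d k = i)).card *
          (Finset.univ.filter (fun k : Fin t => d k = j)).card else 0) +
        ∑ i ∈ Finset.range D, (i - 1) * (Finset.univ.filter (fun k : Fin t => d k = i)).card ^ 2 := by
  classical
  have fib : ∀ g : ℕ → ℕ, ∑ k : Fin t, g (d k) =
      ∑ i ∈ Finset.range D, (Finset.univ.filter (fun k : Fin t => d k = i)).card * g i := by
    intro g
    rw [← Finset.sum_fiberwise_of_maps_to (g := d) (fun k _ => Finset.mem_range.mpr (hD k))]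
    refine Finset.sum_congr rfl fun i _ => ?_
    rw [← smul_eq_mul, ← Finset.sum_const]
    exact Finset.sum_congr rfl fun k hk => by rw [(Finset.mem_filter.mp hk).2]
  set a := fun i : ℕ => (Finset.univ.filter (fun k : Fin t => d k = i)).card
  have h1 : (∑ k : Fin t, ∑ l : Fin t, if d l = d k then d k - 1 else min (d l) (d k)) =
      ∑ i ∈ Finset.range D, ∑ j ∈ Finset.range D, a i * (a j * if j = i then i - 1 else min j i) := by
    rw [fib (fun i => ∑ l : Fin t, if d l = i then i - 1 else min (d l) i)]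
    refine Finset.sum_congr rfl fun i _ => ?_
    rw [fib (fun j => if j = i then i - 1 else min j i), Finset.mul_sum]
  rw [h1]
  have h2 : ∀ i j : ℕ, a i * (a j * if j = i then i - 1 else min j i) =
      (if i < j then i * a i * a j else 0) + (if j < i then j * a j * a i else 0) +
        (if j = i then (i - 1) * a i ^ 2 else 0) := by
    intro i j
    rcases lt_trichotomy i j with h | h | h
    · rw [if_neg (by omega : ¬ j = i), if_pos h, if_neg (by omega : ¬ j < i), if_neg (by omega : ¬ j = i),
        min_eq_right (le_of_lt h)]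
      ring
    · subst h
      simp only [lt_irrefl, if_false, if_true]
      ring
    · rw [if_neg (by omega : ¬ j = i), if_neg (by omega : ¬ i < j), if_pos h, if_neg (by omega : ¬ j = i),
        min_eq_left (le_of_lt h)]
      ring
  simp only [h2, Finset.sum_add_distrib, Finset.sum_ite_eq']
  rw [Finset.sum_comm (f := fun i j => if j < i then j * a j * a i else 0), two_mul]
  congr 1
  exact Finset.sum_congr rfl fun i hi => by rw [if_pos hi]

/-- The matrices commuting with a unipotent matrix correspond to unit parameters. -/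
noncomputable def centralizerEquiv (hd : ∀ k, 1 ≤ d k) :
    {g : GL (Ix d) F // (g : Matrix (Ix d) (Ix d) F) * Cfsg.jordanTypeMatrix d F =
      Cfsg.jordanTypeMatrix d F * (g : Matrix (Ix d) (Ix d) F)} ≃ {c : Par d → F // ∀ s, IsUnit (lead c s)} where
  toFun g := ⟨par (g.1 : Matrix (Ix d) (Ix d) F), (isUnit_iff hd _).mp (by
    rw [mk_par _ ((comm_jordan_iff _).mp g.2)]; exact g.1.isUnit)⟩
  invFun c := ⟨((isUnit_iff hd c.1).mpr c.2).unit, by
    rw [IsUnit.unit_spec]; exact (comm_jordan_iff _).mpr (mk_comm c.1)⟩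
  left_inv g := Subtype.ext (Units.ext (by simp only [IsUnit.unit_spec]; exact mk_par _ ((comm_jordan_iff _).mp g.2)))
  right_inv c := Subtype.ext (by simp only [IsUnit.unit_spec]; exact par_mk c.1)

theorem card_centralizer (hd : ∀ k, 1 ≤ d k) (D : ℕ) (hD : ∀ k, d k < D) :
    Nat.card {g : GL (Ix d) F // (g : Matrix (Ix d) (Ix d) F) * Cfsg.jordanTypeMatrix d F =
      Cfsg.jordanTypeMatrix d F * (g : Matrix (Ix d) (Ix d) F)} =
      Fintype.card F ^ (2 * (∑ i ∈ Finset.range D, ∑ j ∈ Finset.range D,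
        if i < j then i * (Finset.univ.filter (fun k : Fin t => d k = i)).card *
          (Finset.univ.filter (fun k : Fin t => d k = j)).card else 0) +
        ∑ i ∈ Finset.range D, (i - 1) * (Finset.univ.filter (fun k : Fin t => d k = i)).card ^ 2) *
      ∏ i ∈ Finset.range D, ∏ j : Fin ((Finset.univ.filter (fun k : Fin t => d k = i)).card),
        (Fintype.card F ^ (Finset.univ.filter (fun k : Fin t => d k = i)).card - Fintype.card F ^ (j : ℕ)) := by
  classical
  rw [Nat.card_congr (centralizerEquiv hd), card_units hd D hD, card_not_lead hd, exponent_eq hd D hD,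
    Finset.prod_range (fun i => ∏ j : Fin ((Finset.univ.filter (fun k : Fin t => d k = i)).card),
      (Fintype.card F ^ (Finset.univ.filter (fun k : Fin t => d k = i)).card - Fintype.card F ^ (j : ℕ)))]
  congr 1
  refine Finset.prod_congr rfl fun s _ => ?_
  rw [Fintype.card_subtype]

end CfsgLib.JordanCommutant
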